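import Groth.Agent.GeomRedStrata.Basic
import Groth.Agent.RegLocus.FieldExt
import Groth.Agent.AssField.Scheme
import Groth.Prelude.Def_FDesc

/-!
# Pointwise geometric properties of schemes over a field read on affine charts
-/

set_option autoImplicit false
set_option backward.isDefEq.respectTransparency false
set_option backward.isDefEq.respectTransparency.types false

universe u

open CategoryTheory CategoryTheory.Limits AlgebraicGeometry TensorProduct

namespace Groth.Agent.GeomRedAt

variable {k : Type u} [Field k]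

/-- `P` holds at all primes of `K ⊗ A` above `p` -/
def HoldsOver (P : ∀ (R : Type u) [CommRing R], Prop) (A : Type u) [CommRing A] [Algebra k A]
    (p : PrimeSpectrum A) (K : Type u) [Field K] [Algebra k K] : Prop :=
  ∀ Q : PrimeSpectrum (K ⊗[k] A),
    Q.comap (Algebra.TensorProduct.includeRight (R := k) (A := K) (B := A)).toRingHom = p →
      P (Localization.AtPrime Q.asIdeal)

theorem exists_chart {X : Scheme.{u}} (f : X ⟶ Spec (CommRingCat.of k)) (x : X) :
    ∃ (A : CommRingCat.{u}) (_ : Algebra k A) (j : Spec A ⟶ X), IsOpenImmersion j ∧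
      j ≫ f = Spec.map (CommRingCat.ofHom (algebraMap k A)) ∧ x ∈ Set.range j := by
  obtain ⟨i, y, hy⟩ := X.affineOpenCover.openCover.exists_eq x
  obtain ⟨a, ha⟩ := AssField.exists_algebra (X.affineOpenCover.f i ≫ f)
  exact ⟨X.affineOpenCover.X i, a, X.affineOpenCover.f i, inferInstance, ha, y, hy⟩

/-- the chart of the base change -/
theorem exists_bc_chart {X : Scheme.{u}} (f : X ⟶ Spec (CommRingCat.of k)) {A : CommRingCat.{u}}
    [Algebra k A] (j : Spec A ⟶ X) [IsOpenImmersion j]
    (hj : j ≫ f = Spec.map (CommRingCat.ofHom (algebraMap k A))) (K : Type u) [Field K] [Algebra k K] :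
    ∃ ι : Spec (CommRingCat.of (K ⊗[k] A)) ⟶ FBase.bc f K, IsOpenImmersion ι ∧
      ι ≫ FBase.bcπ f K = Spec.map (CommRingCat.ofHom
        (Algebra.TensorProduct.includeRight (R := k) (A := K) (B := A)).toRingHom) ≫ j ∧
      Set.range ι = FBase.bcπ f K ⁻¹' Set.range j := by
  let g := Spec.map (CommRingCat.ofHom (algebraMap k K))
  let gA := Spec.map (CommRingCat.ofHom (algebraMap k A))
  let e : Spec (CommRingCat.of (K ⊗[k] A)) ≅ pullback gA g :=
    (pullbackSpecIso k K A).symm ≪≫ pullbackSymmetry _ _
  let m : pullback gA g ⟶ pullback f g :=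
    pullback.map gA g f g j (𝟙 _) (𝟙 _) (by simpa [gA] using hj.symm) (by simp)
  refine ⟨e.hom ≫ m, inferInstance, ?_, ?_⟩
  · show (e.hom ≫ m) ≫ pullback.fst f g = _
    have h1 : e.hom ≫ pullback.fst gA g = Spec.map (CommRingCat.ofHom
        (Algebra.TensorProduct.includeRight (R := k) (A := K) (B := A)).toRingHom) :=
      (Category.assoc _ _ _).trans ((congrArg ((pullbackSpecIso k K A).inv ≫ ·)
        (pullbackSymmetry_hom_comp_fst _ _)).trans (pullbackSpecIso_inv_snd k K A))
    rw [← h1]
    simp only [Category.assoc, m, pullback.lift_fst]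
  · rw [Scheme.Hom.comp_base, TopCat.coe_comp, Set.range_comp,
      Set.range_eq_univ.2 e.hom.surjective, Set.image_univ]
    show Set.range (pullback.map gA g f g j (𝟙 _) (𝟙 _) _ _) = _
    rw [Scheme.Pullback.range_map]
    simp
    rfl

/-- the stalk of a scheme in an affine chart -/
theorem exists_stalkEquiv {Y : Scheme.{u}} {R : CommRingCat.{u}} (ι : Spec R ⟶ Y) [IsOpenImmersion ι]
    (q : PrimeSpectrum R) : Nonempty (Y.presheaf.stalk (ι q) ≃+* Localization.AtPrime q.asIdeal) :=
  ⟨((asIso (ι.stalkMap q)).commRingCatIsoToRingEquiv).trans (StructureSheaf.stalkIso R q).toRingEquiv.symm⟩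

theorem forall_stalk_iff {X : Scheme.{u}} (P : ∀ (R : Type u) [CommRing R], Prop)
    (hP : ∀ {R S : Type u} [CommRing R] [CommRing S], (R ≃+* S) → P R → P S)
    (f : X ⟶ Spec (CommRingCat.of k)) {A : CommRingCat.{u}}
    [Algebra k A] (j : Spec A ⟶ X) [IsOpenImmersion j]
    (hj : j ≫ f = Spec.map (CommRingCat.ofHom (algebraMap k A))) (p : PrimeSpectrum A)
    (K : Type u) [Field K] [Algebra k K] :
    (∀ x' : FBase.bc f K, FBase.bcπ f K x' = j p → P ((FBase.bc f K).presheaf.stalk x')) ↔
      HoldsOver (k := k) P A p K := by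
  obtain ⟨ι, hι, hfac, hrange⟩ := exists_bc_chart f j hj K
  have hπ : ∀ Q, FBase.bcπ f K (ι Q) = j (PrimeSpectrum.comap
      (Algebra.TensorProduct.includeRight (R := k) (A := K) (B := A)).toRingHom Q) := fun Q => by
    rw [← Scheme.Hom.comp_apply, hfac, Scheme.Hom.comp_apply]
    rfl
  constructor
  · intro h Q hQ
    obtain ⟨e⟩ := exists_stalkEquiv ι Q
    exact hP e (h (ι Q) ((hπ Q).trans (congrArg j hQ)))
  · intro h x' hx'
    obtain ⟨Q, rfl⟩ : x' ∈ Set.range ι := hrange ▸ (show FBase.bcπ f K x' ∈ Set.range j from ⟨p, hx'.symm⟩)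
    obtain ⟨e⟩ := exists_stalkEquiv ι Q
    exact hP e.symm (h Q (j.isOpenEmbedding.injective ((hπ Q).symm.trans hx')))

/-- a localization of `A` gives the localization of `K ⊗ A` at the primes above -/
theorem exists_localizationEquiv (A : Type u) [CommRing A] [Algebra k A] (p : PrimeSpectrum A) (K : Type u)
    [CommRing K] [Algebra k K] (M : Ideal (K ⊗[k] Localization.AtPrime p.asIdeal)) [M.IsPrime] :
    ∃ Q : PrimeSpectrum (K ⊗[k] A),
      Q.comap (Algebra.TensorProduct.includeRight (R := k) (A := K) (B := A)).toRingHom =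
        ((⟨M, ‹_›⟩ : PrimeSpectrum _).comap (Algebra.TensorProduct.includeRight (R := k) (A := K)
          (B := Localization.AtPrime p.asIdeal)).toRingHom).comap (algebraMap A _) ∧
      Nonempty (Localization.AtPrime M ≃+* Localization.AtPrime Q.asIdeal) := by
  letI := (Algebra.TensorProduct.map (AlgHom.id K K)
    (IsScalarTower.toAlgHom k A (Localization.AtPrime p.asIdeal))).toRingHom.toAlgebra
  haveI := GeomRedStrata.isLocalization_baseChange k K p.asIdeal.primeCompl (Localization.AtPrime p.asIdeal)
  let Q : PrimeSpectrum (K ⊗[k] A) := PrimeSpectrum.comap (algebraMap _ _) ⟨M, ‹_›⟩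
  haveI : IsLocalization.AtPrime (Localization.AtPrime M) Q.asIdeal :=
    IsLocalization.isLocalization_isLocalization_atPrime_isLocalization
      (p.asIdeal.primeCompl.map (Algebra.TensorProduct.includeRight (R := k) (A := K))) (Localization.AtPrime M) M
  refine ⟨Q, ?_, ⟨(IsLocalization.algEquiv Q.asIdeal.primeCompl _ _).toRingEquiv⟩⟩
  rw [← PrimeSpectrum.comap_comp_apply, ← PrimeSpectrum.comap_comp_apply]
  congr 1

/-- Conversely the primes of `K ⊗ A` above `p` live in `K ⊗ A_p`. -/
theorem exists_prime_localization (A : Type u) [CommRing A] [Algebra k A] (p : PrimeSpectrum A) (K : Type u)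
    [CommRing K] [Algebra k K] (Q : PrimeSpectrum (K ⊗[k] A))
    (hQ : Q.comap (Algebra.TensorProduct.includeRight (R := k) (A := K) (B := A)).toRingHom = p) :
    ∃ M : PrimeSpectrum (K ⊗[k] Localization.AtPrime p.asIdeal),
      Nonempty (Localization.AtPrime M.asIdeal ≃+* Localization.AtPrime Q.asIdeal) := by
  letI := (Algebra.TensorProduct.map (AlgHom.id K K)
    (IsScalarTower.toAlgHom k A (Localization.AtPrime p.asIdeal))).toRingHom.toAlgebra
  haveI := GeomRedStrata.isLocalization_baseChange k K p.asIdeal.primeCompl (Localization.AtPrime p.asIdeal)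
  let S := p.asIdeal.primeCompl.map (Algebra.TensorProduct.includeRight (R := k) (A := K) (B := A))
  have hdisj : Disjoint (S : Set (K ⊗[k] A)) Q.asIdeal := by
    rw [Set.disjoint_left]
    rintro _ ⟨a, ha, rfl⟩ h
    exact ha (by rw [← hQ]; exact h)
  let M : Ideal (K ⊗[k] Localization.AtPrime p.asIdeal) := Q.asIdeal.map (algebraMap _ _)
  haveI : M.IsPrime := IsLocalization.isPrime_of_isPrime_disjoint S _ Q.asIdeal Q.2 hdisj
  have hM : M.comap (algebraMap (K ⊗[k] A) _) = Q.asIdeal :=
    IsLocalization.comap_map_of_isPrime_disjoint S _ Q.2 hdisj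
  haveI : IsLocalization.AtPrime (Localization.AtPrime M) Q.asIdeal := by
    simpa only [hM] using IsLocalization.isLocalization_isLocalization_atPrime_isLocalization S
      (Localization.AtPrime M) M
  exact ⟨⟨M, ‹_›⟩, ⟨(IsLocalization.algEquiv Q.asIdeal.primeCompl _ _).toRingEquiv⟩⟩

/-- reduced at all primes above `p` (integral extension) gives reducedness of `K ⊗ A_p` -/
theorem isReduced_tensor_atPrime (A : Type u) [CommRing A] [Algebra k A] (p : PrimeSpectrum A) (K : Type u)
    [Field K] [Algebra k K] [Algebra.IsIntegral k K]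
    (h : HoldsOver (k := k) (fun R _ => _root_.IsReduced R) A p K) :
    _root_.IsReduced (K ⊗[k] Localization.AtPrime p.asIdeal) := by
  refine isReduced_ofLocalizationMaximal _ fun M hM => ?_
  haveI := hM.isPrime
  obtain ⟨Q, hQ, ⟨e⟩⟩ := exists_localizationEquiv A p K M
  have hmax : M.comap (Algebra.TensorProduct.includeRight (R := k) (A := K)
      (B := Localization.AtPrime p.asIdeal)).toRingHom = IsLocalRing.maximalIdeal _ := by
    letI : Algebra (Localization.AtPrime p.asIdeal) (K ⊗[k] Localization.AtPrime p.asIdeal) :=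
      Algebra.TensorProduct.rightAlgebra
    haveI : Algebra.IsIntegral (Localization.AtPrime p.asIdeal) (K ⊗[k] Localization.AtPrime p.asIdeal) :=
      ⟨fun t => by
        have h := Algebra.IsIntegral.isIntegral (R := Localization.AtPrime p.asIdeal)
          ((Algebra.TensorProduct.comm k K (Localization.AtPrime p.asIdeal)) t)
        obtain ⟨q, hq, hev⟩ := h
        refine ⟨q, hq, (Algebra.TensorProduct.comm k K (Localization.AtPrime p.asIdeal)).injective ?_⟩
        rw [map_zero, ← hev]
        refine (Polynomial.hom_eval₂ q _ (Algebra.TensorProduct.comm k K (Localization.AtPrime p.asIdeal)).toRingEquiv.toRingHom t).trans ?_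
        rfl⟩
    exact IsLocalRing.eq_maximalIdeal (Ideal.isMaximal_comap_of_isIntegral_of_isMaximal
      (R := Localization.AtPrime p.asIdeal) M)
  haveI := h Q (hQ.trans (PrimeSpectrum.ext (by
    show Ideal.comap (algebraMap A _) (Ideal.comap _ M) = p.asIdeal
    rw [hmax]
    exact Localization.AtPrime.comap_maximalIdeal)))
  exact isReduced_of_injective e e.injective

theorem holdsOver_of_geomRed (A : Type u) [CommRing A] [Algebra k A] (p : PrimeSpectrum A)
    [Algebra.IsGeometricallyReduced k (Localization.AtPrime p.asIdeal)] (K : Type u) [Field K] [Algebra k K] :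
    HoldsOver (k := k) (fun R _ => _root_.IsReduced R) A p K := fun Q hQ => by
  haveI := RegLocus.isReduced_tensor_field k (Localization.AtPrime p.asIdeal) K
  obtain ⟨M, ⟨e⟩⟩ := exists_prime_localization A p K Q hQ
  haveI : _root_.IsReduced (Localization.AtPrime M.asIdeal) := isReduced_localizationPreserves M.asIdeal.primeCompl (Localization.AtPrime M.asIdeal) (by assumption)
  exact isReduced_of_injective e.symm e.symm.injective

/-- geometrically reduced at a point of a chart = geometrically reduced local ring -/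
theorem isGeomReducedAt_iff {X : Scheme.{u}} (f : X ⟶ Spec (CommRingCat.of k)) {A : CommRingCat.{u}}
    [Algebra k A] (j : Spec A ⟶ X) [IsOpenImmersion j]
    (hj : j ≫ f = Spec.map (CommRingCat.ofHom (algebraMap k A))) (p : PrimeSpectrum A) :
    FBase.IsGeomReducedAt f (j p) ↔ Algebra.IsGeometricallyReduced k (Localization.AtPrime p.asIdeal) := by
  have hP : ∀ {R S : Type u} [CommRing R] [CommRing S], (R ≃+* S) → _root_.IsReduced R → _root_.IsReduced S :=
    fun e h => isReduced_of_injective e.symm e.symm.injective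
  constructor
  · intro h
    rw [Algebra.isGeometricallyReduced_field_iff]
    exact isReduced_tensor_atPrime A p (AlgebraicClosure k)
      ((forall_stalk_iff _ hP f j hj p _).1 fun x' hx' => h (AlgebraicClosure k) x' hx')
  · intro h K _ _
    exact (forall_stalk_iff _ hP f j hj p K).2 (holdsOver_of_geomRed A p K)

end Groth.Agent.GeomRedAt
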